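import Groth.Agent.H18.ExtIdeal
import Groth.Agent.Lib.ProjDualExt.Integral
import Groth.Agent.Lib.TFOne.Field
import Groth.Agent.Lib.GrpSch.SmoothReduced
import Groth.Agent.Lib.TFNodal.Enlarge
import Groth.Agent.Lib.TFOne.Push
import Mathlib.AlgebraicGeometry.Geometrically.Irreducible

/-!
# Endomorphisms of ideal sheaves on a smooth proper geometrically irreducible scheme are constants
-/

set_option autoImplicit false
set_option linter.style.haveILetI false
universe u

noncomputable section

open CategoryTheory CategoryTheory.Limits AlgebraicGeometry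

namespace Groth.Agent.H73.IdealEnd

open Groth.Agent.Lib

theorem torsion_idealMod {X : Scheme.{u}} [IsIntegral X] (W : X.IdealSheafData) (x : X) :
    Submodule.torsion (X.presheaf.stalk x) ((_root_.ClSub.idealMod W).presheaf.stalk x) = ⊥ := by
  haveI : Mono (_root_.ClSub.idealModι W) := inferInstanceAs (Mono (kernel.ι _))
  refine le_antisymm (fun a ha => ?_) bot_le
  obtain ⟨⟨r, hr⟩, hra⟩ := (Submodule.mem_torsion_iff a).1 ha
  rw [Submodule.mem_bot]
  refine Groth.Agent.H18.ExtIdeal.stalkMap_injective (_root_.ClSub.idealModι W) x ?_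
  obtain ⟨c, hc⟩ := (AssPt.Basic.unitStalkEquiv x).surjective (RefHull.stalkMapₗ (_root_.ClSub.idealModι W) x a)
  have hra' : r • a = 0 := hra
  have h0 : r • RefHull.stalkMapₗ (_root_.ClSub.idealModι W) x a = 0 := by
    rw [← map_smul, hra', map_zero]
  rw [← hc, ← map_smul, LinearEquiv.map_eq_zero_iff, smul_eq_mul] at h0
  rw [map_zero, ← hc, (mul_eq_zero.1 h0).resolve_left (nonZeroDivisors.ne_zero hr), map_zero]

theorem genericPoint_not_mem_support {X : Scheme.{u}} [IsIntegral X] {W : X.IdealSheafData} (hW : W ≠ ⊥) :
    genericPoint X ∉ (W.support : Set X) := fun h => hW <| by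
  have hs : (W.support : Set X) = Set.univ := Set.univ_subset_iff.1 <| by
    rw [← (genericPoint_spec X).def]
    exact W.support.isClosed.closure_subset_iff.2 (Set.singleton_subset_iff.2 h)
  haveI : Surjective W.subschemeι := ⟨fun y => by
    have hy : y ∈ Set.range W.subschemeι := by rw [Scheme.IdealSheafData.range_subschemeι, hs]; trivial
    exact hy⟩
  haveI : IsIso W.subschemeι := isIso_of_isClosedImmersion_of_surjective _
  rw [← W.ker_subschemeι]
  exact Scheme.Hom.ker_eq_bot_of_isIso _

theorem finrank_stalk_idealMod {X : Scheme.{u}} [IsIntegral X] {W : X.IdealSheafData} (hW : W ≠ ⊥) :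
    Module.finrank (X.presheaf.stalk (genericPoint X))
      ((_root_.ClSub.idealMod W).presheaf.stalk (genericPoint X)) = 1 := by
  rw [(LinearEquiv.ofBijective _ (Groth.Agent.H18.ExtIdeal.bijective_idealModι W
    (genericPoint_not_mem_support hW))).finrank_eq, ← (AssPt.Basic.unitStalkEquiv _).finrank_eq]
  exact Module.finrank_self _

theorem finrank_end {K : Type u} [Field K] {X : Scheme.{u}} [X.Over (Spec (CommRingCat.of K))] [IsIntegral X]
    [Smooth (X ↘ Spec (CommRingCat.of K))] [IsProper (X ↘ Spec (CommRingCat.of K))]
    [GeometricallyIrreducible (X ↘ Spec (CommRingCat.of K))] {W : X.IdealSheafData} (hW : W ≠ ⊥) :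
    Module.Finite K (_root_.ClSub.idealMod W ⟶ _root_.ClSub.idealMod W) ∧
      Module.finrank K (_root_.ClSub.idealMod W ⟶ _root_.ClSub.idealMod W) = 1 := by
  haveI : IsNoetherian X := Curves.GlobalSections.isNoetherian_of_proper K X
  have hc := TFNodal.Enlarge.isCoh_idealMod W
  haveI : (_root_.ClSub.idealMod W).IsQuasicoherent := hc.1
  haveI := ArtinFun.HomFinite.finite_hom (k := K) hc hc
  refine ⟨inferInstance, ProjDualExt.Integral.finrank_end _ (torsion_idealMod W) (finrank_stalk_idealMod hW) ?_⟩
  intro a ha
  obtain ⟨p, hp, hpa⟩ := ha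
  have hη : genericPoint X ∈ genericPoints X := by
    show closure {genericPoint X} ∈ irreducibleComponents X
    rw [irreducibleComponents_eq_singleton, (genericPoint_spec X).def]
    exact Set.mem_singleton _
  have hgi : GeometricallyIntegral (VecSt.subschι X (closure {genericPoint X}) isClosed_closure ≫
      (X ↘ Spec (CommRingCat.of K))) := by
    haveI : Surjective (VecSt.subschι X (closure {genericPoint X}) isClosed_closure) := ⟨fun y => by
      have hy : y ∈ Set.range (VecSt.subschι X (closure {genericPoint X}) isClosed_closure) := by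
        rw [TFOne.Push.range_subschι, (genericPoint_spec X).def]; trivial
      exact hy⟩
    haveI : IsClosedImmersion (VecSt.subschι X (closure {genericPoint X}) isClosed_closure) := by
      unfold VecSt.subschι; infer_instance
    haveI : IsIso (VecSt.subschι X (closure {genericPoint X}) isClosed_closure) :=
      isIso_of_isClosedImmersion_of_surjective _
    rw [MorphismProperty.cancel_left_of_respectsIso @GeometricallyIntegral]
    haveI := GrpSch.geometricallyReduced_of_smooth_field (X ↘ Spec (CommRingCat.of K))
    exact GeometricallyIntegral.of_geometricallyReduced_of_geometricallyIrreducible _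
  exact TFOne.Field.mem_range_base hη hgi hp.ne_zero hpa

end Groth.Agent.H73.IdealEnd
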